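import Mathlib.Topology.Constructible
import Mathlib.Topology.LocallyClosed
import Mathlib.Topology.JacobsonSpace
import Mathlib.Topology.Sets.Opens
import Mathlib.Topology.Sets.Closeds
import Mathlib.Topology.NoetherianSpace

/-!
# Very dense subsets, quasi-constructible sets, quasi-homeomorphisms
-/

universe u

open Set Topology TopologicalSpace

namespace GrothLib.QHomeo

variable {X Y : Type u} [TopologicalSpace X] [TopologicalSpace Y]

/-- A subset meeting every nonempty locally closed set. -/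
def VDense (X₀ : Set X) : Prop :=
  ∀ Z : Set X, IsLocallyClosed Z → Z.Nonempty → (Z ∩ X₀).Nonempty

/-- Finite unions of locally closed sets. -/
def QC (Z : Set X) : Prop := ∃ T : Set (Set X), T.Finite ∧ (∀ t ∈ T, IsLocallyClosed t) ∧ Z = ⋃₀ T

/-- Sets which are locally finite unions of locally closed sets. -/
def LQC (Z : Set X) : Prop :=
  ∀ x : X, ∃ U : Set X, IsOpen U ∧ x ∈ U ∧ ∃ T : Set (Set X), T.Finite ∧
    (∀ t ∈ T, IsLocallyClosed t) ∧ U ∩ Z = ⋃₀ T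

theorem qc_empty : QC (∅ : Set X) := ⟨∅, finite_empty, by simp, by simp⟩

theorem qc_of_lc {Z : Set X} (h : IsLocallyClosed Z) : QC Z :=
  ⟨{Z}, finite_singleton Z, by simpa using h, by simp⟩

theorem qc_union {Z Z' : Set X} : QC Z → QC Z' → QC (Z ∪ Z') := by
  rintro ⟨T, hT, hT', rfl⟩ ⟨S, hS, hS', rfl⟩
  exact ⟨T ∪ S, hT.union hS, fun t ht => ht.elim (hT' t) (hS' t), (sUnion_union T S).symm⟩

theorem qc_inter {Z Z' : Set X} : QC Z → QC Z' → QC (Z ∩ Z') := by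
  rintro ⟨T, hT, hT', rfl⟩ ⟨S, hS, hS', rfl⟩
  refine ⟨image2 (· ∩ ·) T S, hT.image2 _ hS, ?_, ?_⟩
  · rintro _ ⟨t, ht, s, hs, rfl⟩
    exact (hT' t ht).inter (hS' s hs)
  · ext x
    simp only [mem_inter_iff, mem_sUnion, mem_image2]
    constructor
    · rintro ⟨⟨t, ht, hxt⟩, s, hs, hxs⟩
      exact ⟨t ∩ s, ⟨t, ht, s, hs, rfl⟩, hxt, hxs⟩
    · rintro ⟨_, ⟨t, ht, s, hs, rfl⟩, hxt, hxs⟩
      exact ⟨⟨t, ht, hxt⟩, s, hs, hxs⟩

theorem qc_compl {Z : Set X} : QC Z → QC Zᶜ := by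
  rintro ⟨T, hT, hT', rfl⟩
  induction T, hT using Set.Finite.induction_on with
  | empty => simpa using qc_of_lc (X := X) isOpen_univ.isLocallyClosed
  | @insert t T _ _ ih =>
    rw [sUnion_insert, compl_union]
    refine qc_inter ?_ (ih fun s hs => hT' s (mem_insert_of_mem t hs))
    obtain ⟨U, C, hU, hC, rfl⟩ := hT' t (mem_insert t T)
    rw [compl_inter]
    exact qc_union (qc_of_lc hU.isClosed_compl.isLocallyClosed) (qc_of_lc hC.isOpen_compl.isLocallyClosed)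

theorem lqc_of_qc {Z : Set X} (h : QC Z) : LQC Z := fun x => by
  obtain ⟨T, hT, hT', rfl⟩ := h
  exact ⟨univ, isOpen_univ, mem_univ x, T, hT, hT', univ_inter _⟩

theorem lqc_of_lc {Z : Set X} (h : IsLocallyClosed Z) : LQC Z := lqc_of_qc (qc_of_lc h)

theorem lqc_inter {Z Z' : Set X} (h : LQC Z) (h' : LQC Z') : LQC (Z ∩ Z') := fun x => by
  obtain ⟨U, hU, hxU, hQ⟩ := h x
  obtain ⟨U', hU', hxU', hQ'⟩ := h' x
  refine ⟨U ∩ U', hU.inter hU', ⟨hxU, hxU'⟩, ?_⟩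
  rw [inter_inter_inter_comm]
  exact qc_inter hQ hQ'

theorem lqc_compl {Z : Set X} (h : LQC Z) : LQC Zᶜ := fun x => by
  obtain ⟨U, hU, hxU, hQ⟩ := h x
  refine ⟨U, hU, hxU, ?_⟩
  rw [show U ∩ Zᶜ = U ∩ (U ∩ Z)ᶜ by ext; simp only [mem_inter_iff, mem_compl_iff]; tauto]
  exact qc_inter (qc_of_lc hU.isLocallyClosed) (qc_compl hQ)

theorem lqc_sdiff {Z Z' : Set X} (h : LQC Z) (h' : LQC Z') : LQC (Z \ Z') :=
  lqc_inter h (lqc_compl h')

theorem qc_preimage {f : X → Y} (hf : Continuous f) {Z : Set Y} : QC Z → QC (f ⁻¹' Z) := by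
  rintro ⟨T, hT, hT', rfl⟩
  refine ⟨(f ⁻¹' ·) '' T, hT.image _, ?_, by rw [sUnion_image, preimage_sUnion]⟩
  rintro _ ⟨t, ht, rfl⟩
  exact (hT' t ht).preimage hf

theorem lqc_preimage {f : X → Y} (hf : Continuous f) {Z : Set Y} (h : LQC Z) : LQC (f ⁻¹' Z) :=
  fun x => by
    obtain ⟨U, hU, hxU, hQ⟩ := h (f x)
    exact ⟨f ⁻¹' U, hU.preimage hf, hxU, qc_preimage hf hQ⟩

/-- A very dense subset meets every nonempty locally quasi-constructible set. -/
theorem VDense.inter_lqc {X₀ : Set X} (h : VDense X₀) {Z : Set X} (hZ : LQC Z) (hne : Z.Nonempty) :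
    (Z ∩ X₀).Nonempty := by
  obtain ⟨z, hz⟩ := hne
  obtain ⟨U, -, hzU, T, -, hT, hUZ⟩ := hZ z
  obtain ⟨t, ht, hzt⟩ := hUZ.subset ⟨hzU, hz⟩
  obtain ⟨y, hy, hy₀⟩ := h t (hT t ht) ⟨z, hzt⟩
  exact ⟨y, (hUZ.symm.subset ⟨t, ht, hy⟩).2, hy₀⟩

theorem VDense.eq_of_inter_eq {X₀ : Set X} (h : VDense X₀) {Z Z' : Set X} (hZ : LQC Z) (hZ' : LQC Z')
    (e : Z ∩ X₀ = Z' ∩ X₀) : Z = Z' := by
  have key : ∀ {A B : Set X}, LQC A → LQC B → A ∩ X₀ = B ∩ X₀ → A ⊆ B := by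
    intro A B hA hB e x hx
    by_contra hxB
    obtain ⟨y, hy, hy₀⟩ := h.inter_lqc (lqc_sdiff hA hB) ⟨x, hx, hxB⟩
    exact hy.2 (e.subset ⟨hy.1, hy₀⟩).1
  exact (key hZ hZ' e).antisymm (key hZ' hZ e.symm)

theorem vdense_iff_open {X₀ : Set X} :
    VDense X₀ ↔ ∀ U V : Set X, IsOpen U → IsOpen V → U ∩ X₀ = V ∩ X₀ → U = V := by
  refine ⟨fun h U V hU hV => h.eq_of_inter_eq (lqc_of_lc hU.isLocallyClosed) (lqc_of_lc hV.isLocallyClosed),
    fun h Z hZ hne => ?_⟩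
  obtain ⟨U, C, hU, hC, rfl⟩ := hZ
  by_contra h0
  rw [not_nonempty_iff_eq_empty] at h0
  have h1 := h (U ∩ Cᶜ) U (hU.inter hC.isOpen_compl) hU (by
    ext x
    refine ⟨fun hx => ⟨hx.1.1, hx.2⟩, fun hx => ⟨⟨hx.1, fun hxC => ?_⟩, hx.2⟩⟩
    exact (h0.subset ⟨⟨hx.1, hxC⟩, hx.2⟩))
  obtain ⟨x, hxU, hxC⟩ := hne
  exact (h1.symm.subset hxU).2 hxC

theorem inter_range_eq_iff {f : X → Y} {U V : Set Y} :
    U ∩ range f = V ∩ range f ↔ f ⁻¹' U = f ⁻¹' V :=
  ⟨fun e => by rw [← preimage_inter_range, e, preimage_inter_range],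
    fun e => by rw [← image_preimage_eq_inter_range, e, image_preimage_eq_inter_range]⟩

/-- A quasi-homeomorphism: an inducing map with very dense image. -/
structure IsQH (f : X → Y) : Prop where
  inducing : IsInducing f
  vdense : VDense (range f)

theorem isInducing_of_forall_isOpen {f : X → Y} (hf : Continuous f)
    (h : ∀ V : Set X, IsOpen V → ∃ U : Set Y, IsOpen U ∧ f ⁻¹' U = V) : IsInducing f :=
  ⟨le_antisymm hf.le_induced fun V hV => isOpen_induced_iff.2 (h V hV)⟩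

theorem isQH_iff {f : X → Y} : IsQH f ↔ Continuous f ∧
    (∀ U₁ U₂ : Set Y, IsOpen U₁ → IsOpen U₂ → f ⁻¹' U₁ = f ⁻¹' U₂ → U₁ = U₂) ∧
      (∀ V : Set X, IsOpen V → ∃ U : Set Y, IsOpen U ∧ f ⁻¹' U = V) := by
  refine ⟨fun h => ⟨h.inducing.continuous,
    fun U V hU hV e => vdense_iff_open.1 h.vdense U V hU hV (inter_range_eq_iff.2 e),
    fun V hV => h.inducing.isOpen_iff.1 hV⟩, fun ⟨hf, h₁, h₂⟩ => ⟨isInducing_of_forall_isOpen hf h₂, ?_⟩⟩
  exact vdense_iff_open.2 fun U V hU hV e => h₁ U V hU hV (inter_range_eq_iff.1 e)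

theorem isQH_of_bijective_opens {f : X → Y} (hf : Continuous f)
    (h : Function.Bijective (fun U : Opens Y =>
      (⟨f ⁻¹' (U : Set Y), U.isOpen.preimage hf⟩ : Opens X))) : IsQH f :=
  isQH_iff.2 ⟨hf,
    fun U V hU hV e => congrArg (fun W : Opens Y => (W : Set Y))
      (h.1 (a₁ := ⟨U, hU⟩) (a₂ := ⟨V, hV⟩) (Opens.ext e)),
    fun V hV => by
      obtain ⟨U, hU⟩ := h.2 ⟨V, hV⟩
      exact ⟨U, U.isOpen, congrArg (fun W : Opens X => (W : Set X)) hU⟩⟩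

section qh

variable {f : X → Y} (hf : IsQH f)
include hf

theorem IsQH.eq_of_preimage_eq {Z Z' : Set Y} (hZ : LQC Z) (hZ' : LQC Z')
    (e : f ⁻¹' Z = f ⁻¹' Z') : Z = Z' :=
  hf.vdense.eq_of_inter_eq hZ hZ' (inter_range_eq_iff.2 e)

theorem IsQH.eq_of_preimage_eq_open {U U' : Set Y} (hU : IsOpen U) (hU' : IsOpen U')
    (e : f ⁻¹' U = f ⁻¹' U') : U = U' :=
  hf.eq_of_preimage_eq (lqc_of_lc hU.isLocallyClosed) (lqc_of_lc hU'.isLocallyClosed) e

theorem IsQH.exists_open {V : Set X} (hV : IsOpen V) : ∃ U : Set Y, IsOpen U ∧ f ⁻¹' U = V :=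
  hf.inducing.isOpen_iff.1 hV

theorem IsQH.exists_lc {Z : Set X} (hZ : IsLocallyClosed Z) :
    ∃ W : Set Y, IsLocallyClosed W ∧ f ⁻¹' W = Z :=
  hf.inducing.isLocallyClosed_iff.1 hZ

theorem IsQH.exists_qc {Z : Set X} : QC Z → ∃ W : Set Y, QC W ∧ f ⁻¹' W = Z := by
  rintro ⟨T, hT, hT', rfl⟩
  choose g hg hg' using fun t : T => hf.exists_lc (hT' t.1 t.2)
  haveI := hT.to_subtype
  refine ⟨⋃₀ range g, ⟨range g, finite_range g, by rintro _ ⟨t, rfl⟩; exact hg t, rfl⟩, ?_⟩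
  ext x
  simp only [mem_preimage, mem_sUnion, mem_range]
  constructor
  · rintro ⟨_, ⟨t, rfl⟩, hx⟩
    exact ⟨t.1, t.2, (hg' t).subset hx⟩
  · rintro ⟨t, ht, hx⟩
    exact ⟨_, ⟨⟨t, ht⟩, rfl⟩, (hg' ⟨t, ht⟩).symm.subset hx⟩

theorem IsQH.exists_lqc {Z : Set X} (hZ : LQC Z) : ∃ W : Set Y, LQC W ∧ f ⁻¹' W = Z := by
  choose V hV hxV hQ using hZ
  choose U hU hUV using fun x => hf.exists_open (hV x)
  choose Q hQ hQV using fun x => hf.exists_qc (hQ x : QC (V x ∩ Z))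
  have hagree : ∀ x x', Q x ∩ U x' ∩ U x = Q x' ∩ U x' ∩ U x := by
    intro x x'
    have h : ∀ z, LQC (Q z ∩ U x' ∩ U x) := fun z =>
      lqc_inter (lqc_inter (lqc_of_qc (hQ z)) (lqc_of_lc (hU x').isLocallyClosed))
        (lqc_of_lc (hU x).isLocallyClosed)
    refine hf.eq_of_preimage_eq (h x) (h x') ?_
    rw [preimage_inter, preimage_inter, preimage_inter, preimage_inter, hQV, hQV, hUV, hUV]
    ext z
    simp only [mem_inter_iff]
    tauto
  have hcov : ⋃ x, U x = univ := hf.eq_of_preimage_eq_open (isOpen_iUnion hU) isOpen_univ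
    (eq_univ_of_forall fun x => mem_iUnion.2 ⟨x, (hUV x).symm.subset (hxV x)⟩)
  refine ⟨⋃ x, U x ∩ Q x, fun y => ?_, ?_⟩
  · obtain ⟨x, hx⟩ := mem_iUnion.1 (hcov.symm.subset (mem_univ y))
    refine ⟨U x, hU x, hx, ?_⟩
    suffices h : U x ∩ ⋃ x', U x' ∩ Q x' = U x ∩ Q x by
      rw [h]; exact qc_inter (qc_of_lc (hU x).isLocallyClosed) (hQ x)
    ext z
    refine ⟨fun ⟨hz, hz'⟩ => ?_, fun ⟨hz, hz'⟩ => ⟨hz, mem_iUnion.2 ⟨x, hz, hz'⟩⟩⟩
    obtain ⟨x', hzx', hzq⟩ := mem_iUnion.1 hz'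
    exact ⟨hz, ((hagree x x').symm.subset ⟨⟨hzq, hzx'⟩, hz⟩).1.1⟩
  · ext z
    rw [mem_preimage, mem_iUnion]
    constructor
    · rintro ⟨x, -, hz⟩
      exact ((hQV x).subset hz).2
    · intro hz
      exact ⟨z, (hUV z).symm.subset (hxV z), (hQV z).symm.subset ⟨hxV z, hz⟩⟩

theorem IsQH.restrictPreimage {Y' : Set Y} (hY' : LQC Y') : IsQH (Y'.restrictPreimage f) := by
  refine ⟨hf.inducing.restrictPreimage Y', vdense_iff_open.2 fun U V hU hV e => ?_⟩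
  rw [inter_range_eq_iff] at e
  obtain ⟨U₀, hU₀, rfl⟩ := isOpen_induced_iff.1 hU
  obtain ⟨V₀, hV₀, rfl⟩ := isOpen_induced_iff.1 hV
  have h := hf.eq_of_preimage_eq (lqc_inter hY' (lqc_of_lc hU₀.isLocallyClosed))
    (lqc_inter hY' (lqc_of_lc hV₀.isLocallyClosed)) (by
      ext x
      refine ⟨fun hx => ⟨hx.1, ?_⟩, fun hx => ⟨hx.1, ?_⟩⟩
      · exact (Set.ext_iff.1 e ⟨x, hx.1⟩).1 hx.2
      · exact (Set.ext_iff.1 e ⟨x, hx.1⟩).2 hx.2)
  ext y
  exact ⟨fun hy => (h.subset ⟨y.2, hy⟩).2, fun hy => (h.symm.subset ⟨y.2, hy⟩).2⟩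

theorem IsQH.isCompact_preimage_iff {U : Set Y} (hU : IsOpen U) :
    IsCompact (f ⁻¹' U) ↔ IsCompact U := by
  constructor
  · intro h
    refine isCompact_of_finite_subcover fun {ι} W hW hUW => ?_
    obtain ⟨t, ht⟩ := h.elim_finite_subcover (fun i => f ⁻¹' W i)
      (fun i => (hW i).preimage hf.inducing.continuous)
      (by rw [← preimage_iUnion]; exact preimage_mono hUW)
    refine ⟨t, ?_⟩
    have e := hf.eq_of_preimage_eq_open (hU.inter (isOpen_biUnion fun i _ => hW i)) hU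
      (by
        rw [preimage_inter, inter_eq_left, preimage_iUnion₂]
        exact ht)
    rw [← e]
    exact inter_subset_right
  · intro h
    refine isCompact_of_finite_subcover fun {ι} V hV hUV => ?_
    choose W hW hWV using fun i => hf.exists_open (hV i)
    have hcov : U ⊆ ⋃ i, W i := by
      have e := hf.eq_of_preimage_eq_open (hU.inter (isOpen_iUnion hW)) hU
        (by
          rw [preimage_inter, inter_eq_left, preimage_iUnion]
          simpa [hWV] using hUV)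
      rw [← e]
      exact inter_subset_right
    obtain ⟨t, ht⟩ := h.elim_finite_subcover W hW hcov
    refine ⟨t, (preimage_mono ht).trans ?_⟩
    simp [preimage_iUnion₂, hWV]

theorem IsQH.isCompact_lqc_preimage_iff {Y' : Set Y} (hY' : LQC Y') :
    IsCompact (f ⁻¹' Y') ↔ IsCompact Y' := by
  rw [isCompact_iff_isCompact_univ, isCompact_iff_isCompact_univ (s := Y'),
    ← (hf.restrictPreimage hY').isCompact_preimage_iff isOpen_univ, preimage_univ]

theorem IsQH.noetherianSpace_iff : NoetherianSpace X ↔ NoetherianSpace Y := by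
  constructor
  · intro _
    rw [noetherianSpace_iff_opens]
    intro U
    exact (hf.isCompact_preimage_iff U.isOpen).1 (NoetherianSpace.isCompact _)
  · intro _
    rw [noetherianSpace_iff_opens]
    intro V
    obtain ⟨U, hU, hUV⟩ := hf.exists_open V.isOpen
    rw [← hUV]
    exact (hf.isCompact_preimage_iff hU).2 (NoetherianSpace.isCompact _)

theorem IsQH.isRetrocompact_preimage_iff {U : Set Y} (hU : LQC U) :
    IsRetrocompact (f ⁻¹' U) ↔ IsRetrocompact U := by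
  refine ⟨fun h W hWc hWo => ?_, fun h V hVc hVo => ?_⟩
  · rw [← hf.isCompact_lqc_preimage_iff (lqc_inter hU (lqc_of_lc hWo.isLocallyClosed)), preimage_inter]
    exact h ((hf.isCompact_preimage_iff hWo).2 hWc) (hWo.preimage hf.inducing.continuous)
  · obtain ⟨W, hW, rfl⟩ := hf.exists_open hVo
    rw [← preimage_inter, hf.isCompact_lqc_preimage_iff (lqc_inter hU (lqc_of_lc hW.isLocallyClosed))]
    exact h ((hf.isCompact_preimage_iff hW).1 hVc) hW

end qh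

end GrothLib.QHomeo
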