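import Groth.Agent.Lib.QHomeo.Basic

/-!
# Constructible sets and quasi-homeomorphisms
-/

universe u

open Set Topology TopologicalSpace

namespace GrothLib.QHomeo

variable {X Y : Type u} [TopologicalSpace X] [TopologicalSpace Y]

/-- The subspace formulation of local quasi-constructibility. -/
theorem lqc_iff_subtype {Z : Set X} :
    LQC Z ↔ ∀ x : X, ∃ V : Set X, IsOpen V ∧ x ∈ V ∧ QC (Subtype.val ⁻¹' Z : Set V) := by
  refine ⟨fun h x => ?_, fun h x => ?_⟩
  · obtain ⟨U, hU, hxU, hQ⟩ := h x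
    refine ⟨U, hU, hxU, ?_⟩
    rw [show (Subtype.val ⁻¹' Z : Set U) = Subtype.val ⁻¹' (U ∩ Z) by ext z; simp [z.2]]
    exact qc_preimage continuous_subtype_val hQ
  · obtain ⟨V, hV, hxV, T, hT, hT', hVZ⟩ := h x
    refine ⟨V, hV, hxV, (Subtype.val '' ·) '' T, hT.image _, ?_, ?_⟩
    · rintro _ ⟨t, ht, rfl⟩
      exact (hT' t ht).image .subtypeVal (by simpa using hV.isLocallyClosed)
    · rw [← Subtype.image_preimage_coe, hVZ, image_sUnion]

theorem qc_of_isConstructible {Z : Set X} (h : IsConstructible Z) : QC Z := by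
  induction h using IsConstructible.empty_union_induction with
  | open_retrocompact U hU _ => exact qc_of_lc hU.isLocallyClosed
  | union s _ t _ hs ht => exact qc_union hs ht
  | compl s _ hs => exact qc_compl hs

theorem lqc_of_isLocallyConstructible {Z : Set X} (h : IsLocallyConstructible Z) : LQC Z :=
  lqc_iff_subtype.2 fun x => by
    obtain ⟨U, hxU, hU, hQ⟩ := h x
    exact ⟨U, hU, mem_of_mem_nhds hxU, qc_of_isConstructible hQ⟩

variable {f : X → Y} (hf : IsQH f)
include hf

theorem IsQH.isConstructible_preimage {Z : Set Y} (hZ : IsConstructible Z) :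
    IsConstructible (f ⁻¹' Z) :=
  hZ.preimage hf.inducing.continuous fun _ hs hs' =>
    (hf.isRetrocompact_preimage_iff (lqc_of_lc hs.isLocallyClosed)).2 hs'

theorem IsQH.exists_constructible {Z : Set X} (hZ : IsConstructible Z) :
    ∃ W : Set Y, IsConstructible W ∧ f ⁻¹' W = Z := by
  induction hZ using IsConstructible.empty_union_induction with
  | open_retrocompact V hV hV' =>
    obtain ⟨U, hU, rfl⟩ := hf.exists_open hV
    exact ⟨U, ((hf.isRetrocompact_preimage_iff (lqc_of_lc hU.isLocallyClosed)).1 hV').isConstructible hU, rfl⟩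
  | union s _ t _ hs ht =>
    obtain ⟨A, hA, rfl⟩ := hs
    obtain ⟨B, hB, rfl⟩ := ht
    exact ⟨A ∪ B, hA.union hB, rfl⟩
  | compl s _ hs =>
    obtain ⟨A, hA, rfl⟩ := hs
    exact ⟨Aᶜ, hA.compl, rfl⟩

theorem IsQH.isLocallyConstructible_preimage {Z : Set Y} (hZ : IsLocallyConstructible Z) :
    IsLocallyConstructible (f ⁻¹' Z) := fun x => by
  obtain ⟨U, hxU, hU, hQ⟩ := hZ (f x)
  exact ⟨f ⁻¹' U, hf.inducing.continuous.continuousAt.preimage_mem_nhds hxU,
    hU.preimage hf.inducing.continuous,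
    (hf.restrictPreimage (lqc_of_lc hU.isLocallyClosed)).isConstructible_preimage hQ⟩

theorem IsQH.exists_locallyConstructible {Z : Set X} (hZ : IsLocallyConstructible Z) :
    ∃ W : Set Y, IsLocallyConstructible W ∧ f ⁻¹' W = Z := by
  obtain ⟨W, hW, hWZ⟩ := hf.exists_lqc (lqc_of_isLocallyConstructible hZ)
  refine ⟨W, fun y => ?_, hWZ⟩
  choose V hxV hV hQ using hZ
  choose U hU hUV using fun x => hf.exists_open (hV x)
  have hcov : ⋃ x, U x = univ := hf.eq_of_preimage_eq_open (isOpen_iUnion hU) isOpen_univ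
    (eq_univ_of_forall fun x => mem_iUnion.2 ⟨x, (hUV x).symm.subset (mem_of_mem_nhds (hxV x))⟩)
  obtain ⟨x, hx⟩ := mem_iUnion.1 (hcov.symm.subset (mem_univ y))
  refine ⟨U x, (hU x).mem_nhds hx, hU x, ?_⟩
  have hg := hf.restrictPreimage (lqc_of_lc (hU x).isLocallyClosed)
  have hQ' : IsConstructible (Subtype.val ⁻¹' Z : Set ↥(f ⁻¹' U x)) := by
    rw [hUV x]
    exact hQ x
  obtain ⟨Q, hQc, hQZ⟩ := hg.exists_constructible hQ'
  rwa [show (Subtype.val ⁻¹' W : Set (U x)) = Q from hg.eq_of_preimage_eq (lqc_preimage continuous_subtype_val hW)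
    (lqc_of_qc (qc_of_isConstructible hQc)) (by rw [hQZ, ← hWZ]; rfl)]

end GrothLib.QHomeo
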